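/-
A nonidentity element of the group of the code fixes at most six points outside an octad; in particular
seven fixed points lie in an octad.
-/
import Cfsg.Agent.Lib.M24.SixPoint

set_option autoImplicit false

namespace Cfsg.Agent.Lib.M24

open Cfsg Cfsg.Agent.Lib.Golay Finset MulAction
open scoped Pointwise

/-- An element of order three fixing the points `0, …, 5`. -/
def c3L : List ℕ := [0, 1, 2, 3, 4, 5, 21, 12, 11, 18, 7, 13, 10, 8, 17, 22, 6, 23, 19, 9, 15, 16, 20, 14]

lemma c3_perm : isPerm c3L = true := by decide +kernel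

lemma c3_aut : autCheck c3L = true := by decide +kernel

lemma c3_mem : perm c3L ∈ M24 := perm_mem_M24 c3_perm c3_aut

lemma c3_fix_base (i : Fin 5) : perm c3L (base5' i) = base5' i := by
  rw [perm_apply c3_perm]
  revert i
  decide +kernel

lemma c3_fix5 : perm c3L (pt 5) = pt 5 := by
  rw [perm_apply c3_perm]
  decide +kernel

lemma c3_fix_only (y : GolayPt) (hy : perm c3L y = y) : (∃ i, y = base5' i) ∨ y = pt 5 := by
  rw [perm_apply c3_perm] at hy
  revert y
  decide +kernel

lemma c3_ne_one : perm c3L ≠ 1 := by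
  intro h
  have h1 : perm c3L (pt 6) = pt 6 := by rw [h]; rfl
  rw [perm_apply c3_perm] at h1
  revert h1
  decide +kernel

lemma c3_pow : perm c3L ^ 3 = 1 := by
  apply Equiv.ext
  intro p
  rw [pow_succ, pow_two, Equiv.Perm.mul_apply, Equiv.Perm.mul_apply, perm_apply c3_perm,
    perm_apply c3_perm, perm_apply c3_perm, Equiv.Perm.one_apply]
  revert p
  decide +kernel

lemma pt5_not_mem_o0 : pt 5 ∉ finOf o0 := by decide +kernel

/-- An element fixing the base, `pt 5` and one further point is the identity. -/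
theorem fix_base_trivial {g : Equiv.Perm GolayPt} (hg : g ∈ M24) (hb : ∀ i, g (base5' i) = base5' i)
    (h5 : g (pt 5) = pt 5) {y : GolayPt} (hy : g y = y) (hy1 : ∀ i, y ≠ base5' i) (hy2 : y ≠ pt 5) :
    g = 1 := by
  classical
  let S : Set GolayPt := ((univ.image base5' : Finset GolayPt) : Set GolayPt)
  have hS : S.ncard = 5 := by
    rw [Set.ncard_coe_finset, card_image_base]
  let K : Subgroup ↥M24 := fixingSubgroup M24 S
  have hK : ∀ k : ↥M24, k ∈ K ↔ ∀ i, (k : Equiv.Perm GolayPt) (base5' i) = base5' i := by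
    intro k
    rw [mem_fixingSubgroup_iff]
    constructor
    · intro h i
      exact h _ (by simp [S])
    · intro h z hz
      simp only [S, coe_image, coe_univ, Set.image_univ, Set.mem_range] at hz
      obtain ⟨i, rfl⟩ := hz
      exact h i
  have hcardK : Nat.card K = 48 := by
    have h : Nat.card K * (Nat.choose 24 S.ncard * S.ncard.factorial) = 244823040 :=
      card_fixing_M24 S (le_of_eq hS)
    rw [hS] at h
    have h0 : Nat.choose 24 5 * Nat.factorial 5 = 5100480 := by decide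
    rw [h0] at h
    omega
  let St : Subgroup ↥K := stabilizer ↥K (pt 5)
  have horb : 16 ≤ (orbit ↥K (pt 5)).ncard := by
    have h1 : (((finOf o0)ᶜ : Finset GolayPt) : Set GolayPt) ⊆ orbit ↥K (pt 5) := by
      intro z hz
      have hz' : z ∉ finOf o0 := by simpa using hz
      have hne : ∀ i, z ≠ base5' i := fun i e => hz' (e ▸ base5'_mem i)
      have hne5 : ∀ i, pt 5 ≠ base5' i := fun i e => pt5_not_mem_o0 (e ▸ base5'_mem i)
      have hiff : ((∃ o ∈ octads, (∀ i, base5' i ∈ o) ∧ pt 5 ∈ o) ↔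
          (∃ o ∈ octads, (∀ i, base5' i ∈ o) ∧ z ∈ o)) := by
        have hfalse : ∀ w, w ∉ finOf o0 → ¬ ∃ o ∈ octads, (∀ i, base5' i ∈ o) ∧ w ∈ o := by
          rintro w hw ⟨o, ho, hb', hwo⟩
          have h2 : o = finOf o0 := octad_unique (s := univ.image base5') card_image_base ho O0_mem
            (finset_image_base _ hb') (finset_image_base _ base5'_mem)
          exact hw (h2 ▸ hwo)
        exact iff_of_false (hfalse _ pt5_not_mem_o0) (hfalse _ hz')
      obtain ⟨k, hk, hk1, hk2⟩ := six_point_transfer base5' base5' base5'_inj base5'_inj (pt 5) z hne5 hne hiff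
      exact ⟨⟨⟨k, hk⟩, (hK _).2 hk1⟩, hk2⟩
    have h2 := Set.ncard_le_ncard h1 (Set.toFinite _)
    rw [Set.ncard_coe_finset, card_compl, O0_mem.2, card_golayPt] at h2
    exact h2
  have hSt : Nat.card St * (orbit ↥K (pt 5)).ncard = 48 := by
    rw [← MulAction.index_stabilizer, Subgroup.card_mul_index, hcardK]
  have hc1 : (⟨perm c3L, c3_mem⟩ : ↥M24) ∈ K := (hK _).2 c3_fix_base
  let c' : ↥St := ⟨⟨⟨perm c3L, c3_mem⟩, hc1⟩, c3_fix5⟩
  have hc'ne : c' ≠ 1 := by
    intro h
    apply c3_ne_one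
    exact congrArg (fun z : ↥St => ((z.1.1 : ↥M24) : Equiv.Perm GolayPt)) h
  have hc'pow : c' ^ 3 = 1 := by
    apply Subtype.ext
    apply Subtype.ext
    apply Subtype.ext
    exact c3_pow
  have hord : orderOf c' = 3 := by
    have : Fact (Nat.Prime 3) := ⟨by norm_num⟩
    exact orderOf_eq_prime hc'pow hc'ne
  have hdvd : 3 ∣ Nat.card St := by
    rw [← hord]
    exact orderOf_dvd_natCard c'
  have hcard3 : Nat.card St = 3 := by
    obtain ⟨m, hm⟩ := hdvd
    rw [hm] at hSt ⊢
    have hm0 : m ≠ 0 := by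
      rintro rfl
      simp at hSt
    have : (orbit ↥K (pt 5)).ncard ≤ 16 := by
      by_contra hlt
      push Not at hlt
      have h3 : 3 * m * 17 ≤ 3 * m * (orbit ↥K (pt 5)).ncard := Nat.mul_le_mul_left _ hlt
      omega
    have h4 : (orbit ↥K (pt 5)).ncard = 16 := le_antisymm this horb
    rw [h4] at hSt
    omega
  by_contra hne1
  have hgK : (⟨g, hg⟩ : ↥M24) ∈ K := (hK _).2 hb
  let g' : ↥St := ⟨⟨⟨g, hg⟩, hgK⟩, h5⟩
  have hg'ne : g' ≠ 1 := by
    intro h
    exact hne1 (congrArg (fun z : ↥St => ((z.1.1 : ↥M24) : Equiv.Perm GolayPt)) h)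
  have : Fact (Nat.Prime 3) := ⟨by norm_num⟩
  have htop := zpowers_eq_top_of_prime_card hcard3 hg'ne
  have hmem : c' ∈ Subgroup.zpowers g' := by
    rw [htop]
    trivial
  obtain ⟨k, hk⟩ := Subgroup.mem_zpowers_iff.1 hmem
  have h1 : g ^ k = perm c3L := by
    have := congrArg (fun z : ↥St => ((z.1.1 : ↥M24) : Equiv.Perm GolayPt)) hk
    simpa [g', c'] using this
  have h2 : perm c3L y = y := by
    rw [← h1]
    exact Equiv.Perm.zpow_apply_eq_self_of_apply_eq_self hy k
  rcases c3_fix_only y h2 with ⟨i, hi⟩ | h3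
  · exact hy1 i hi
  · exact hy2 h3

/-- An element fixing at least seven points not in an octad is trivial. -/
theorem fix_trivial {g : Equiv.Perm GolayPt} (hg : g ∈ M24) {F : Finset GolayPt} (hF : ∀ z ∈ F, g z = z)
    (hc : 7 ≤ F.card) (hno : ∀ o ∈ octads, ¬ F ⊆ o) : g = 1 := by
  classical
  obtain ⟨s, hsF, hs⟩ := Finset.exists_subset_card_eq (s := F) (n := 5) (by omega)
  obtain ⟨O, hO, hsO⟩ := octad_exists hs
  obtain ⟨x, hxF, hxO⟩ := Finset.not_subset.1 (hno O hO)
  have hxs : x ∉ s := fun h => hxO (hsO h)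
  have hc6 : (insert x s).card < F.card := by
    rw [card_insert_of_notMem hxs, hs]
    omega
  obtain ⟨y, hyF, hy⟩ := Finset.exists_mem_notMem_of_card_lt_card hc6
  have hyx : y ≠ x := fun e => hy (e ▸ mem_insert_self _ _)
  have hys : y ∉ s := fun h => hy (mem_insert_of_mem h)
  let e : Fin 5 ≃ ↥s := (s.equivFinOfCardEq hs).symm
  let f : Fin 5 → GolayPt := fun i => (e i : GolayPt)
  have hf : Function.Injective f := fun i j hij => e.injective (Subtype.ext hij)
  have hfs : ∀ i, f i ∈ s := fun i => (e i).2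
  have hfsur : ∀ z ∈ s, ∃ i, f i = z := by
    intro z hz
    exact ⟨e.symm ⟨z, hz⟩, by simp [f]⟩
  have himg : s ⊆ univ.image f := by
    intro z hz
    obtain ⟨i, hi⟩ := hfsur z hz
    exact mem_image.2 ⟨i, mem_univ _, hi⟩
  have hfalse1 : ¬ ∃ o ∈ octads, (∀ i, f i ∈ o) ∧ x ∈ o := by
    rintro ⟨o, ho, h1, h2⟩
    have hso : s ⊆ o := fun z hz => by
      obtain ⟨i, rfl⟩ := hfsur z hz
      exact h1 i
    have : o = O := octad_unique hs ho hO hso hsO
    exact hxO (this ▸ h2)
  have hfalse2 : ¬ ∃ o ∈ octads, (∀ i, base5' i ∈ o) ∧ pt 5 ∈ o := by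
    rintro ⟨o, ho, hb', hwo⟩
    have h2 : o = finOf o0 := octad_unique (s := univ.image base5') card_image_base ho O0_mem
      (finset_image_base _ hb') (finset_image_base _ base5'_mem)
    exact pt5_not_mem_o0 (h2 ▸ hwo)
  have hxf : ∀ i, x ≠ f i := fun i e' => hxs (e' ▸ hfs i)
  have h5b : ∀ i, pt 5 ≠ base5' i := fun i e' => pt5_not_mem_o0 (e' ▸ base5'_mem i)
  obtain ⟨h, hh, hh1, hh2⟩ := six_point_transfer f base5' hf base5'_inj x (pt 5) hxf h5b
    (iff_of_false hfalse1 hfalse2)
  have hinv1 : ∀ i, h⁻¹ (base5' i) = f i := fun i => by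
    rw [Equiv.Perm.inv_eq_iff_eq, hh1]
  have hinv2 : h⁻¹ (pt 5) = x := by
    rw [Equiv.Perm.inv_eq_iff_eq, hh2]
  have key : h * g * h⁻¹ = 1 := by
    apply fix_base_trivial (y := h y) (M24.mul_mem (M24.mul_mem hh hg) (M24.inv_mem hh))
    · intro i
      rw [Equiv.Perm.mul_apply, Equiv.Perm.mul_apply, hinv1, hF _ (hsF (hfs i)), hh1]
    · rw [Equiv.Perm.mul_apply, Equiv.Perm.mul_apply, hinv2, hF _ hxF, hh2]
    · have h0 : h⁻¹ (h y) = y := by simp
      rw [Equiv.Perm.mul_apply, Equiv.Perm.mul_apply, h0, hF _ hyF]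
    · intro i e'
      rw [← hh1 i] at e'
      exact hys (h.injective e' ▸ hfs i)
    · intro e'
      rw [← hh2] at e'
      exact hyx (h.injective e')
  have h3 : g = h⁻¹ * (h * g * h⁻¹) * h := by group
  rw [h3, key]
  group

/-- The fixed points of a nonidentity element lie in an octad, if there are at least seven. -/
theorem fix_in_octad {g : Equiv.Perm GolayPt} (hg : g ∈ M24) (hne : g ≠ 1) {F : Finset GolayPt}
    (hF : ∀ z ∈ F, g z = z) (hc : 7 ≤ F.card) : ∃ o ∈ octads, F ⊆ o := by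
  by_contra h
  push Not at h
  exact hne (fix_trivial hg hF hc h)

end Cfsg.Agent.Lib.M24
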